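import Mathlib
import Groth.Prelude.Def_Pi1

set_option autoImplicit false
universe u
open CategoryTheory CategoryTheory.Limits AlgebraicGeometry

namespace Groth.Agent.H14.NF

/-- (GENL) (adapted from helper42's `NN_GEN.exists_generization`) -/
theorem exists_generization_isLocalization {X : Scheme.{u}} (x : X)
    (q : Ideal (X.presheaf.stalk x)) [q.IsPrime] :
    ∃ (x' : X) (h : x' ⤳ x),
      @IsLocalization.AtPrime _ _ (X.presheaf.stalk x') _
        (X.presheaf.stalkSpecializes h).hom.toAlgebra q _ := by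
  obtain ⟨_, ⟨U, hU : IsAffineOpen U, rfl⟩, hxU, -⟩ :=
    X.isBasis_affineOpens.exists_subset_of_mem_open (Set.mem_univ x) isOpen_univ
  let algx : Algebra Γ(X, U) (X.presheaf.stalk x) := X.presheaf.algebra_section_stalk ⟨x, hxU⟩
  have hloc : IsLocalization.AtPrime (X.presheaf.stalk x) (hU.primeIdealOf ⟨x, hxU⟩).asIdeal :=
    hU.isLocalization_stalk ⟨x, hxU⟩
  let q₀ : Ideal Γ(X, U) := q.comap (algebraMap Γ(X, U) (X.presheaf.stalk x))
  have hq₀ : q₀.IsPrime := Ideal.comap_isPrime _ _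
  let y : PrimeSpectrum Γ(X, U) := ⟨q₀, hq₀⟩
  let x' : X := hU.fromSpec y
  have hx'U : x' ∈ U := by
    have : x' ∈ Set.range hU.fromSpec := ⟨y, rfl⟩
    rw [hU.range_fromSpec] at this
    exact this
  have hle : y ≤ hU.primeIdealOf ⟨x, hxU⟩ := by
    intro a ha
    have h1 : algebraMap Γ(X, U) (X.presheaf.stalk x) a ∈ q := ha
    have h2 : algebraMap Γ(X, U) (X.presheaf.stalk x) a ∈
        IsLocalRing.maximalIdeal (X.presheaf.stalk x) :=
      IsLocalRing.le_maximalIdeal (Ideal.IsPrime.ne_top inferInstance) h1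
    exact (IsLocalization.AtPrime.to_map_mem_maximal_iff (X.presheaf.stalk x)
      (hU.primeIdealOf ⟨x, hxU⟩).asIdeal a).mp h2
  have hspec : x' ⤳ x := by
    have h1 : y ⤳ hU.primeIdealOf ⟨x, hxU⟩ := (PrimeSpectrum.le_iff_specializes _ _).mp hle
    have h2 := h1.map hU.fromSpec.continuous
    rwa [hU.fromSpec_primeIdealOf ⟨x, hxU⟩] at h2
  let algx' : Algebra Γ(X, U) (X.presheaf.stalk x') :=
    X.presheaf.algebra_section_stalk ⟨x', hx'U⟩
  have hloc' : IsLocalization.AtPrime (X.presheaf.stalk x') q₀ := hU.isLocalization_stalk' y hx'U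
  refine ⟨x', hspec, ?_⟩
  set σ := (X.presheaf.stalkSpecializes hspec).hom with hσ
  have hcomp : σ.comp (algebraMap Γ(X, U) (X.presheaf.stalk x)) =
      algebraMap Γ(X, U) (X.presheaf.stalk x') := by
    have h := TopCat.Presheaf.germ_stalkSpecializes X.presheaf hxU hspec
    have h' := congrArg (fun f => f.hom) h
    exact h'
  letI algσ : Algebra (X.presheaf.stalk x) (X.presheaf.stalk x') := σ.toAlgebra
  haveI : IsScalarTower Γ(X, U) (X.presheaf.stalk x) (X.presheaf.stalk x') :=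
    IsScalarTower.of_algebraMap_eq (fun a => (RingHom.congr_fun hcomp a).symm)
  have hMN : (hU.primeIdealOf ⟨x, hxU⟩).asIdeal.primeCompl ≤ q₀.primeCompl := by
    intro a ha ha'
    exact ha (hle ha')
  haveI h1 : IsLocalization (q₀.primeCompl.map (algebraMap Γ(X, U) (X.presheaf.stalk x)))
      (X.presheaf.stalk x') :=
    IsLocalization.isLocalization_of_submonoid_le (X.presheaf.stalk x) (X.presheaf.stalk x')
      (hU.primeIdealOf ⟨x, hxU⟩).asIdeal.primeCompl q₀.primeCompl hMN
  have hle2 : q₀.primeCompl.map (algebraMap Γ(X, U) (X.presheaf.stalk x)) ≤ q.primeCompl := by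
    rintro _ ⟨a, ha, rfl⟩
    exact ha
  refine IsLocalization.isLocalization_of_is_exists_mul_mem (X.presheaf.stalk x')
    (q₀.primeCompl.map (algebraMap Γ(X, U) (X.presheaf.stalk x))) q.primeCompl hle2 ?_
  rintro ⟨z, hz⟩
  obtain ⟨⟨a, s⟩, e⟩ := IsLocalization.surj (hU.primeIdealOf ⟨x, hxU⟩).asIdeal.primeCompl z
  refine ⟨algebraMap Γ(X, U) (X.presheaf.stalk x) s, a, ?_, ?_⟩
  · intro ha
    have h2 : algebraMap Γ(X, U) (X.presheaf.stalk x) a ∈ q := ha
    rw [← e] at h2
    rcases Ideal.IsPrime.mem_or_mem inferInstance h2 with h3 | h3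
    · exact hz h3
    · have hu : IsUnit (algebraMap Γ(X, U) (X.presheaf.stalk x) s) :=
        IsLocalization.map_units _ s
      exact Ideal.IsPrime.ne_top inferInstance (Ideal.eq_top_of_isUnit_mem _ h3 hu)
  · rw [← e, mul_comm]

end Groth.Agent.H14.NF
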