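import Mathlib
import Groth.Prelude.Def_Pi1
import Groth.Agent.H47.SmoothNormal

set_option autoImplicit false
universe u
open CategoryTheory CategoryTheory.Limits AlgebraicGeometry

namespace Groth.Agent.H14.NF

/-- (HGENA) stalks of a scheme smooth over a field are integrally closed domains. -/
theorem normal_stalk_of_smooth_field {Y : Scheme.{u}} (K : CommRingCat.{u}) (hK : IsField K)
    (g : Y ⟶ Spec K) [Smooth g] (y : Y) :
    IsDomain (Y.presheaf.stalk y) ∧ IsIntegrallyClosed (Y.presheaf.stalk y) := by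
  obtain ⟨_, ⟨V, hV : IsAffineOpen V, rfl⟩, hyV, -⟩ :=
    Y.isBasis_affineOpens.exists_subset_of_mem_open (Set.mem_univ y) isOpen_univ
  have hsm : (g.appLE ⊤ V le_top).hom.Smooth :=
    Smooth.smooth_appLE g (isAffineOpen_top (Spec K)) hV le_top
  -- the base ring Γ(Spec K, ⊤) is a field
  let e : Γ(Spec K, ⊤) ≃+* K := (Scheme.ΓSpecIso K).commRingCatIsoToRingEquiv
  letI : Field K := hK.toField
  have hfield : IsField Γ(Spec K, ⊤) := e.toMulEquiv.isField (Field.toIsField K)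
  letI : Field Γ(Spec K, ⊤) := hfield.toField
  letI : Algebra Γ(Spec K, ⊤) Γ(Y, V) := (g.appLE ⊤ V le_top).hom.toAlgebra
  haveI : Algebra.Smooth Γ(Spec K, ⊤) Γ(Y, V) := hsm
  letI : Algebra Γ(Y, V) (Y.presheaf.stalk y) :=
    TopCat.Presheaf.algebra_section_stalk Y.presheaf ⟨y, hyV⟩
  haveI : IsLocalization.AtPrime (Y.presheaf.stalk y) (hV.primeIdealOf ⟨y, hyV⟩).asIdeal :=
    hV.isLocalization_stalk ⟨y, hyV⟩
  letI : Algebra Γ(Spec K, ⊤) (Y.presheaf.stalk y) :=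
    ((algebraMap Γ(Y, V) (Y.presheaf.stalk y)).comp
      (algebraMap Γ(Spec K, ⊤) Γ(Y, V))).toAlgebra
  haveI : IsScalarTower Γ(Spec K, ⊤) Γ(Y, V) (Y.presheaf.stalk y) :=
    IsScalarTower.of_algebraMap_eq (fun _ => rfl)
  exact Groth.Agent.H47.EtaleNormal.isDomain_isIntegrallyClosed_atPrime_of_smooth
    Γ(Spec K, ⊤) Γ(Y, V) (hV.primeIdealOf ⟨y, hyV⟩).asIdeal (Y.presheaf.stalk y)

end Groth.Agent.H14.NF
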