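import Mathlib
import Groth.Prelude.Def_Pi1
import Groth.Agent.H72.NF_RING2
import Groth.Agent.H92.NF_HRED
import Groth.Agent.H68.NF_HGEN

set_option autoImplicit false
universe u
open CategoryTheory CategoryTheory.Limits AlgebraicGeometry

namespace Groth.Agent.H14.NF

theorem main (S C : Scheme.{u}) [IsIntegral S] [IsNoetherian S]
    (hS : Pi1.IsNormalScheme S) (f : C ⟶ S) [Flat f] [LocallyOfFinitePresentation f]
    [GeometricallyReduced f]
    (hsm : Smooth (f.fiberToSpecResidueField (genericPoint ↥S))) :
    Pi1.IsNormalScheme C := by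
  intro x
  obtain ⟨hd, hic⟩ := hS (f.base x)
  letI : Algebra (S.presheaf.stalk (f.base x)) (C.presheaf.stalk x) :=
    (f.stalkMap x).hom.toAlgebra
  haveI : Module.Flat (S.presheaf.stalk (f.base x)) (C.presheaf.stalk x) := Flat.stalkMap f x
  haveI : IsNoetherianRing (S.presheaf.stalk (f.base x)) := inferInstance
  haveI : LocallyOfFiniteType f := inferInstance
  haveI : IsLocallyNoetherian C := LocallyOfFiniteType.isLocallyNoetherian f
  haveI : IsNoetherianRing (C.presheaf.stalk x) := inferInstance
  exact Groth.Agent.H72.NF_RING2.normal_of_flat_of_fibres (R := S.presheaf.stalk (f.base x)) (A := C.presheaf.stalk x)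
    (fun q _ => Groth.Agent.H92.NF_HRED.isReduced_quot f x q)
    (fun q _ hq => Groth.Agent.H68.NF_HGEN.normal_of_comap_eq_bot f hsm x q hq)

end Groth.Agent.H14.NF
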